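import Cfsg.Agent.Lib.CIT.ThreeSizes.Basic
import Cfsg.Agent.Lib.Char.ExceptionalConst
import Cfsg.Agent.Lib.Coprime.FpfAction
import Cfsg.Agent.Lib.CIT.Basic

/-!
# Simple groups with three class sizes: no centralizer is properly contained in another

For `y` and `u` in the two coprime classes every irreducible character satisfies
`χ(y)χ(u) = χ(1)χ(yu)`; with the exceptional characters of the abelian Hall centralizer this bounds
the centralizer of `yu` strictly below the order of the Frobenius complement, which lies in one of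
the smallest centralizers.
-/

set_option autoImplicit false
set_option linter.unusedSectionVars false
set_option linter.style.haveILetI false
set_option maxHeartbeats 1000000

namespace CfsgLib.CIT.ThreeSizes

open Subgroup Cfsg CfsgLib.Char
open scoped ComplexConjugate

universe u

variable {G : Type u} [Group G] [Fintype G] [IsSimpleGroup G] (hna : ¬ IsMulCommutative G)

include hna

omit hna in
theorem norm_le_degree {V : Type*} [AddCommGroup V] [Module ℂ V] [FiniteDimensional ℂ V]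
    (ρ : Representation ℂ G V) (g : G) : ‖ρ.character g‖ ≤ (Module.finrank ℂ V : ℝ) := by
  obtain ⟨b, μ, h1, -, h3⟩ := exists_eigen_data ρ g
  have e := h3 1
  simp only [pow_one] at e
  rw [e]
  refine (norm_sum_le _ _).trans (le_of_eq ?_)
  rw [Finset.sum_congr rfl fun i _ => norm_eq_one_of_pow_eq_one' (orderOf_pos g).ne' (h1 i)]
  simp

/-- A nontrivial irreducible character is bounded strictly by its degree off the identity. -/
theorem norm_lt_degree (χ : IrrCharacter G) (hne : (χ : G → ℂ) ≠ fun _ => 1) {g : G} (hg : g ≠ 1) :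
    ‖(χ : G → ℂ) g‖ < ((χ : G → ℂ) 1).re := by
  obtain ⟨χ, n, ρ, hρ, rfl⟩ := χ
  show ‖ρ.character g‖ < (ρ.character 1).re
  rw [Representation.char_one, Complex.natCast_re]
  refine lt_of_le_of_ne (norm_le_degree ρ g) fun h => hg ?_
  obtain ⟨ω, hω⟩ := (norm_char_eq_iff ρ g).mp h
  have hker : (MonoidHom.ker ρ) = ⊥ := by
    rcases (MonoidHom.normal_ker ρ).eq_bot_or_eq_top with e | e
    · exact e
    · exact absurd (irr_eq_one_of_trivial ρ fun x => MonoidHom.mem_ker.mp (e ▸ mem_top x)) hne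
  have hz : g ∈ center G := mem_center_iff.mpr fun x => by
    refine (MonoidHom.ker_eq_bot_iff ρ).mp hker ?_
    rw [map_mul, map_mul, hω]
    ext v
    simp [Module.End.mul_apply]
  rwa [center_eq_bot hna, mem_bot] at hz

/-- A nontrivial irreducible character is not linear. -/
theorem degree_ne_one (χ : IrrCharacter G) (hne : (χ : G → ℂ) ≠ fun _ => 1) : (χ : G → ℂ) 1 ≠ 1 := by
  intro h1
  obtain ⟨g, hg⟩ := exists_ne (1 : G)
  have h := norm_lt_degree hna χ hne hg
  obtain ⟨χ, n, ρ, hρ, rfl⟩ := χ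
  change ‖ρ.character g‖ < (ρ.character (1 : G)).re at h
  rw [show (ρ.character (1 : G)) = 1 from h1, Complex.one_re] at h
  have h1' : (Module.finrank ℂ (Fin n → ℂ) : ℂ) = 1 := (Representation.char_one ρ).symm.trans h1
  have hd : Module.finrank ℂ (Fin n → ℂ) = 1 := by exact_mod_cast h1'
  obtain ⟨b, μ, h1, -, h3⟩ := exists_eigen_data ρ g
  have e := h3 1
  simp only [pow_one] at e
  let i₀ : Fin (Module.finrank ℂ (Fin n → ℂ)) := ⟨0, by omega⟩
  rw [show (ρ.character g) = μ i₀ by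
      rw [e]; refine Finset.sum_eq_single i₀ (fun i _ hi => absurd ?_ hi) (by simp)
      exact Fin.ext (by have := i.2; show (i : ℕ) = 0; omega)] at h
  exact h.ne (norm_eq_one_of_pow_eq_one' (orderOf_pos g).ne' (h1 i₀))

omit hna in
/-- The trivial character. -/
noncomputable def oneChar : IrrCharacter G := ⟨fun _ => 1, isIrrCharacter_one⟩

variable {a b c : ℕ} (h : Chain G a b c)

include h

/-- The product rule for a pair from the two classes. -/
theorem prod_rule {y u : G} (hy : cc y = b) (hu : cc u = c) (χ : IrrCharacter G) :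
    (χ : G → ℂ) y * (χ : G → ℂ) u = (χ : G → ℂ) 1 * (χ : G → ℂ) (y * u) := by
  classical
  have hcl : ∀ x g : G, (χ : G → ℂ) (g * x * g⁻¹) = (χ : G → ℂ) x :=
    isClassFunction_of_isGeneralized (isGeneralizedCharacter_of_isCharacter (isCharacter_irr χ))
  have hz : ∀ z : G, (classConst y u z : ℂ) * (χ : G → ℂ) z =
      (classConst y u z : ℂ) * (χ : G → ℂ) (y * u) := by
    intro z
    by_cases he : IsEmpty {p : G × G // IsConj y p.1 ∧ IsConj u p.2 ∧ p.1 * p.2 = z}
    · rw [classConst, Nat.card_of_isEmpty, Nat.cast_zero, zero_mul, zero_mul]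
    rw [not_isEmpty_iff] at he
    obtain ⟨⟨p, p'⟩, h1, h2, rfl⟩ := he
    obtain ⟨g₁, rfl⟩ := isConj_iff.1 h1
    obtain ⟨g₂, rfl⟩ := isConj_iff.1 h2
    obtain ⟨g, hg1, hg2⟩ := pair_conj hna h hy hu g₁ g₂
    rw [← hg1, ← hg2, show g * y * g⁻¹ * (g * u * g⁻¹) = g * (y * u) * g⁻¹ by group, hcl]
  have h1 := omega_mul χ y u
  have h0 := omega_mul (oneChar (G := G)) y u
  simp only [omega, oneChar, mul_one, div_one] at h0
  rw [Finset.sum_congr rfl fun z _ => by rw [hz z, mul_div_assoc], ← Finset.sum_mul, ← h0] at h1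
  simp only [omega] at h1
  have hd := irr_one_ne_zero χ
  have hk : ∀ x : G, (Nat.card {v : G // IsConj x v} : ℂ) ≠ 0 := fun x =>
    Nat.cast_ne_zero.2 (Nat.card_pos_iff.2 ⟨⟨⟨x, IsConj.refl x⟩⟩, inferInstance⟩).ne'
  field_simp at h1
  exact h1

/-- The structure with a proper containment is impossible. -/
theorem no_chain : False := by
  classical
  obtain ⟨y, hy1, hy⟩ := h.exb
  obtain ⟨w, hw1, hw⟩ := h.exc
  obtain ⟨hbc, hco⟩ := card_mul_eq hna h
  obtain ⟨W, hWdef⟩ : ∃ W : Subgroup G, W = centralizer {w} := ⟨_, rfl⟩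
  have hWc : Nat.card W = c := by rw [hWdef]; exact hw
  have hA : ∀ x ∈ W, x ≠ 1 → centralizer ({x} : Set G) = W := by
    rw [hWdef]; exact fun x hx hx1 => (C_eq hna h hw hw1 hx hx1).1
  have hab : ∀ x ∈ W, ∀ x' ∈ W, x * x' = x' * x := by
    rw [hWdef]; exact (C_eq hna h hw hw1 (self_mem w) hw1).2
  haveI : Nontrivial W :=
    ⟨⟨⟨w, by rw [hWdef]; exact self_mem w⟩, 1, fun e => hw1 (congrArg Subtype.val e)⟩⟩
  have hWu : ∀ u ∈ W, u ≠ 1 → cc u = c := fun u hu hu1 => by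
    rw [cc, hA u hu hu1, hWc]
  -- elements outside the second kind do not reach `W`
  have hout : ∀ x : G, x ≠ 1 → cc x ≠ c → ∀ g : G, g * x * g⁻¹ ∈ W → g * x * g⁻¹ = 1 := by
    intro x hx1 hx g hg
    rcases order_cases hna h hx1 with ⟨hb, -, -⟩ | ⟨-, -, h3⟩
    · have h1 : orderOf (g * x * g⁻¹) ∣ c := hWc ▸ orderOf_dvd_natCard _ hg
      rw [orderOf_conj_eq] at h1
      exact absurd (orderOf_eq_one_iff.1 (Nat.dvd_one.1 (hco ▸ Nat.dvd_gcd hb h1))) hx1
    · exact absurd h3 hx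
  obtain ⟨D⟩ := nonempty_excData W hA hab
  set e := excIndex W with hedef
  set N := normalizer (W : Set G) with hNdef
  have hWN : Nat.card (W.subgroupOf N) = c := by
    rw [Nat.card_congr (subgroupOfEquivOfLe le_normalizer).toEquiv, hWc]
  have hcN : c * e = Nat.card N := by rw [← hWN]; exact card_mul_index _
  have heb : e ∣ b := by
    have h1 := card_subgroup_dvd_card N
    rw [← hcN, ← hbc, mul_comm b c] at h1
    exact Nat.dvd_of_mul_dvd_mul_left (hWc ▸ Nat.card_pos) h1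
  -- the complement lies in a small centralizer
  have hea : e ≤ a := by
    haveI : (W.subgroupOf N).Normal := normal_in_normalizer
    obtain ⟨H, hH⟩ := exists_right_complement'_of_coprime (N := W.subgroupOf N)
      (by rw [hWN]; exact (hco.symm).coprime_dvd_right heb)
    have hHe : Nat.card H = e := by
      have h1 := hH.card_mul
      rw [hWN, ← hcN] at h1
      exact Nat.eq_of_mul_eq_mul_left (hWc ▸ Nat.card_pos) h1
    rcases eq_or_ne H ⊥ with rfl | hH1
    · rw [← hHe, Subgroup.card_bot]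
      obtain ⟨x, hx1⟩ := exists_ne (1 : G)
      rcases Nat.eq_zero_or_pos a with ha | ha
      · exact absurd (Nat.eq_zero_of_zero_dvd (ha ▸ h.dvd)) (by rw [← hy]; exact Nat.card_pos.ne')
      · exact ha
    have hfpf : CfsgLib.Coprime.IsFpfOn H (W.subgroupOf N) := by
      intro k hk hk1
      refine eq_bot_iff.2 fun v hv => ?_
      obtain ⟨hvW, hvk⟩ := mem_inf.1 hv
      rw [mem_bot]
      by_contra hv1
      have hkW : (k : G) ∈ centralizer ({(v : G)} : Set G) :=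
        mem_C.2 (congrArg Subtype.val (mem_centralizer_singleton_iff.1 hvk)).symm
      rw [hA (v : G) hvW fun e => hv1 (Subtype.ext e)] at hkW
      have : k ∈ (⊥ : Subgroup N) := hH.disjoint.le_bot ⟨hkW, hk⟩
      exact hk1 (mem_bot.1 this)
    have hK : W.subgroupOf N ≠ ⊥ := fun e0 => by
      rw [e0, Subgroup.card_bot] at hWN
      exact absurd (hWc.trans hWN.symm) (Finite.one_lt_card (α := W)).ne'
    obtain ⟨⟨⟨h₀, hh₀H⟩, hh₀c⟩, hh₀1⟩ := ne_bot_iff_exists_ne_one.1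
      (CfsgLib.Coprime.frob_complement_center_ne_bot hH hK hH1 hfpf)
    have hh₀ne : (h₀ : G) ≠ 1 := fun e0 => hh₀1 (Subtype.ext (Subtype.ext (Subtype.ext e0)))
    have hh₀a : cc (h₀ : G) = a := by
      have hd : orderOf (h₀ : G) ∣ e := by
        rw [orderOf_coe, ← hHe]; exact orderOf_dvd_natCard _ hh₀H
      rcases order_cases hna h hh₀ne with ⟨-, -, h3⟩ | ⟨-, h2, -⟩
      · rcases h.vals _ hh₀ne with e0 | e0 | e0
        · exact e0
        · refine absurd h₀.2 ?_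
          have := not_normalizes hna h e0 hh₀ne hw hw1
          rw [← hWdef] at this
          exact this
        · exact absurd e0 h3
      · exact absurd (hd.trans heb) h2
    have hle : (H.map N.subtype) ≤ centralizer ({(h₀ : G)} : Set G) := by
      rintro _ ⟨k, hk, rfl⟩
      exact mem_C.2 (congrArg (fun z : H => ((z : N) : G)) (mem_center_iff.1 hh₀c ⟨k, hk⟩))
    calc e = Nat.card (H.map N.subtype) := by rw [card_map_of_injective N.subtype_injective, hHe]
      _ ≤ cc (h₀ : G) := Nat.le_of_dvd Nat.card_pos (card_dvd_of_le hle)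
      _ = a := hh₀a
  -- at least two exceptional characters
  haveI : Fintype (IrrCharacter G) := Fintype.ofFinite _
  haveI : Fintype (Exc W) := Fintype.ofFinite _
  set n := Nat.card (Exc W) with hndef
  have hne : n * e = c - 1 := hWc ▸ card_exc W hA hab
  have hc1 : 2 ≤ c := hWc ▸ Finite.one_lt_card (α := W)
  have hn2 : 2 ≤ n := by
    by_contra hn
    have hn1 : n = 1 := by
      rcases Nat.eq_zero_or_pos n with h0 | h0
      · rw [h0, zero_mul] at hne; omega
      · omega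
    rw [hn1, one_mul] at hne
    obtain ⟨s, hs, k, hk, -⟩ := exists_prime_pow hw1
    have hwkW : w ^ k ∈ W := by rw [hWdef]; exact pow_mem (self_mem w) k
    have hwk1 : w ^ k ≠ 1 := fun e0 => hs.ne_one (by rw [← hk, e0, orderOf_one])
    -- every nontrivial element of `W` is conjugate to that element
    let f : N ⧸ W.subgroupOf N → {x : W // x ≠ 1} := Quotient.lift
      (fun g : N => ⟨⟨(g : G) * w ^ k * (g : G)⁻¹, (mem_normalizer_iff.1 g.2 _).1 hwkW⟩,
        fun e0 => hwk1 (conj_eq_one_iff.1 (congrArg Subtype.val e0))⟩) fun g g' hg => by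
        refine Subtype.ext (Subtype.ext ?_)
        have hm := hab _ (mem_subgroupOf.1 (QuotientGroup.leftRel_apply.1 hg)) _ hwkW
        show (g : G) * w ^ k * (g : G)⁻¹ = (g' : G) * w ^ k * (g' : G)⁻¹
        have e0 : (g' : G) = g * ((g : G)⁻¹ * g') := by group
        rw [e0, show (g : G) * ((g : G)⁻¹ * g') * w ^ k * ((g : G) * ((g : G)⁻¹ * g'))⁻¹ =
          (g : G) * (((g : G)⁻¹ * g') * w ^ k) * ((g : G)⁻¹ * g')⁻¹ * (g : G)⁻¹ by group,
          show ((g : G)⁻¹ * g') * w ^ k = w ^ k * ((g : G)⁻¹ * g') from hm]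
        group
    have hinj : Function.Injective f := by
      intro x x'
      induction x using QuotientGroup.induction_on with
      | H g =>
      induction x' using QuotientGroup.induction_on with
      | H g' =>
      intro he
      have he' : (g : G) * w ^ k * (g : G)⁻¹ = (g' : G) * w ^ k * (g' : G)⁻¹ :=
        congrArg (fun z : {x : W // x ≠ 1} => ((z : W) : G)) he
      refine QuotientGroup.eq.2 (mem_subgroupOf.2 ?_)
      rw [← hA _ hwkW hwk1, mem_C]
      show (g : G)⁻¹ * g' * w ^ k = w ^ k * ((g : G)⁻¹ * g')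
      calc (g : G)⁻¹ * g' * w ^ k = (g : G)⁻¹ * ((g' : G) * w ^ k * (g' : G)⁻¹) * g' := by group
        _ = w ^ k * ((g : G)⁻¹ * g') := by rw [← he']; group
    haveI : Fintype (N ⧸ W.subgroupOf N) := Fintype.ofFinite _
    haveI : Fintype {x : W // x ≠ 1} := Fintype.ofFinite _
    have hbij : Function.Bijective f := by
      refine (Fintype.bijective_iff_injective_and_card f).2 ⟨hinj, ?_⟩
      rw [← Nat.card_eq_fintype_card, ← Nat.card_eq_fintype_card]
      show (W.subgroupOf N).index = _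
      haveI : Fintype W := Fintype.ofFinite _
      rw [show (W.subgroupOf N).index = e from rfl, hne, ← hWc, Nat.card_eq_fintype_card (α := {x : W // x ≠ 1}),
        Nat.card_eq_fintype_card, Fintype.card_subtype_compl, Fintype.card_subtype_eq]
    refine index_ne_prime_pow hna hy1 (p := s) hs fun q hq hqd => ?_
    have h1 := card_mul_index (centralizer ({y} : Set G))
    rw [show Nat.card (centralizer ({y} : Set G)) = b from hy, ← hbc] at h1
    rw [Nat.eq_of_mul_eq_mul_left (hy ▸ Nat.card_pos) h1, ← hWc] at hqd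
    haveI : Fact q.Prime := ⟨hq⟩
    obtain ⟨⟨v, hv⟩, hvo⟩ := exists_prime_orderOf_dvd_card' (G := W) q hqd
    rw [Subgroup.orderOf_mk] at hvo
    obtain ⟨x, hx⟩ := hbij.2 ⟨⟨v, hv⟩, fun e0 => hq.ne_one (by
      rw [← hvo, show v = 1 from congrArg Subtype.val e0, orderOf_one])⟩
    induction x using QuotientGroup.induction_on with
    | H g =>
      rw [← hvo, ← show (g : G) * w ^ k * (g : G)⁻¹ = v from
        congrArg (fun z : {x : W // x ≠ 1} => ((z : W) : G)) hx, orderOf_conj_eq, hk]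
  haveI : Nontrivial (Exc W) := Finite.one_lt_card_iff_nontrivial.1 hn2
  -- class functions and constants
  have hcl : ∀ (ψ : IrrCharacter G) (x g : G), (ψ : G → ℂ) (g * x * g⁻¹) = (ψ : G → ℂ) x := fun ψ =>
    isClassFunction_of_isGeneralized (isGeneralizedCharacter_of_isCharacter (isCharacter_irr ψ))
  choose cst hcst using fun ψ : IrrCharacter G => exists_const_value W hA hab D ψ
  set S : Finset (IrrCharacter G) := Finset.univ.image D.θ with hSdef
  have hS : ∀ ψ, ψ ∉ S → ∀ i, D.θ i ≠ ψ := fun ψ hψ i e0 =>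
    hψ (Finset.mem_image.2 ⟨i, Finset.mem_univ _, e0⟩)
  have hψu : ∀ ψ, ψ ∉ S → ∀ u ∈ W, u ≠ 1 → (ψ : G → ℂ) u = cst ψ := fun ψ hψ u hu hu1 =>
    (hcst ψ ⟨u, le_normalizer hu⟩ hu fun e0 => hu1 (congrArg Subtype.val e0)).2 (hS ψ hψ)
  have hθu : ∀ i, ∀ u ∈ W, ∀ hu : u ≠ 1, ∀ hm : u ∈ normalizer (W : Set G), (D.θ i : G → ℂ) u =
      (D.ε : ℂ) * (i.1 : ↥(normalizer (W : Set G)) → ℂ) ⟨u, hm⟩ + cst (D.θ i) :=
    fun i u hu hu1 hm => (hcst (D.θ i) ⟨u, hm⟩ hu fun e0 => hu1 (congrArg Subtype.val e0)).1 i rfl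
  have hε : (D.ε : ℂ) * D.ε = 1 := by
    rcases D.sign with hs | hs <;> rw [hs] <;> norm_num
  have hε0 : (D.ε : ℂ) ≠ 0 := fun e0 => by rw [e0, zero_mul] at hε; exact zero_ne_one hε
  obtain ⟨i₀⟩ : Nonempty (Exc W) := inferInstance
  obtain ⟨u₀, hu₀W, hu₀1⟩ : ∃ u ∈ W, u ≠ 1 := ⟨w, by rw [hWdef]; exact self_mem w, hw1⟩
  set c₀ := cst (D.θ i₀) with hc₀
  have hconst : ∀ i, cst (D.θ i) = c₀ := by
    intro i
    have h1 := exc_diff_ind W hA hab i i₀ ⟨u₀, le_normalizer hu₀W⟩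
    rw [D.ind] at h1
    simp only [Pi.smul_apply, Pi.sub_apply, smul_eq_mul] at h1
    rw [hθu i u₀ hu₀W hu₀1 (le_normalizer hu₀W), hθu i₀ u₀ hu₀W hu₀1 (le_normalizer hu₀W)] at h1
    have h2 : (cst (D.θ i) : ℂ) = c₀ := by
      apply mul_left_cancel₀ hε0
      linear_combination h1 - ((i.1 : ↥(normalizer (W : Set G)) → ℂ) ⟨u₀, le_normalizer hu₀W⟩ -
        (i₀.1 : ↥(normalizer (W : Set G)) → ℂ) ⟨u₀, le_normalizer hu₀W⟩) * hε
    exact_mod_cast h2
  have hθeq : ∀ x : G, (∀ g : G, g * x * g⁻¹ ∈ W → g * x * g⁻¹ = 1) →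
      ∀ i, (D.θ i : G → ℂ) x = (D.θ i₀ : G → ℂ) x := by
    intro x hx i
    have h1 := exc_diff_vanish W hA hab i i₀ x hx
    rw [D.ind] at h1
    simp only [Pi.smul_apply, Pi.sub_apply, smul_eq_mul, mul_eq_zero, sub_eq_zero] at h1
    exact h1.resolve_left hε0
  have hone : oneChar ∉ S := fun hm => by
    obtain ⟨i, -, e0⟩ := Finset.mem_image.1 hm
    exact exc_not_one W hA hab D i (by rw [e0]; rfl)
  have hntriv : ∀ ψ : IrrCharacter G, ψ ≠ oneChar → (ψ : G → ℂ) ≠ fun _ => 1 := fun ψ hψ e0 =>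
    hψ (Subtype.ext e0)
  have hsplit : ∀ F : IrrCharacter G → ℂ, ∑ ψ, F ψ = ∑ ψ ∈ Sᶜ, F ψ + ∑ i : Exc W, F (D.θ i) := by
    intro F
    rw [← Finset.sum_compl_add_sum S, hSdef, Finset.sum_image fun x _ x' _ e0 => D.inj e0]
  have hyc : cc y ≠ c := hy ▸ ne_bc hna h
  have hyW : ∀ g : G, g * y * g⁻¹ ∈ W → g * y * g⁻¹ = 1 := hout y hy1 hyc
  set d := (D.θ i₀ : G → ℂ) 1 with hddef
  have hd : ∀ i, (D.θ i : G → ℂ) 1 = d := hθeq 1 fun g _ => by group
  have hd0 : d ≠ 0 := irr_one_ne_zero _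
  obtain ⟨hsum1, hsum2⟩ := sum_exc_column W hA hab (k := ⟨u₀, le_normalizer hu₀W⟩) hu₀W
    fun e0 => hu₀1 (congrArg Subtype.val e0)
  -- the product is never of the second kind
  have hγ : ∀ u ∈ W, u ≠ 1 → y * u ≠ 1 ∧ cc (y * u) ≠ c := by
    intro u hu hu1
    have hγ1 : y * u ≠ 1 := fun e0 => by
      have hyu : y ∈ W := by rw [eq_inv_of_mul_eq_one_left e0]; exact inv_mem hu
      rw [hWdef] at hyu
      exact not_commute hna h hy hw hy1 hw1 hyu
    refine ⟨hγ1, fun hγc => ?_⟩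
    obtain ⟨g, hg⟩ := exists_conj hna h hw hw1 hγc hγ1
    rw [← hWdef] at hg
    have hg1 : g * (y * u) * g⁻¹ ≠ 1 := fun e0 => hγ1 (conj_eq_one_iff.1 e0)
    have hzero : ∀ ψ, ψ ∉ S → ψ ≠ oneChar → cst ψ = 0 := by
      intro ψ hψ hψ1
      have h1 := prod_rule hna h hy (hWu u hu hu1) ψ
      rw [← hcl ψ (y * u) g, hψu ψ hψ _ hg hg1, hψu ψ hψ u hu hu1] at h1
      have hlt := norm_lt_degree hna ψ (hntriv ψ hψ1) hy1
      by_contra h0
      have he : (ψ : G → ℂ) y = (ψ : G → ℂ) 1 := mul_right_cancel₀ (Int.cast_ne_zero.2 h0) h1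
      rw [he] at hlt
      exact not_lt.2 (Complex.re_le_norm _) hlt
    have horth := sum_irr_mul_conj u₀ (1 : G)
    rw [if_neg fun e0 => hu₀1 (isConj_one_left.1 e0), hsplit,
      Finset.sum_eq_single (oneChar (G := G)) (fun ψ hψ hψ1 => by
        rw [hψu ψ (Finset.mem_compl.1 hψ) u₀ hu₀W hu₀1, hzero ψ (Finset.mem_compl.1 hψ) hψ1, Int.cast_zero,
          zero_mul]) (fun hm => absurd (Finset.mem_compl.2 hone) hm),
      Finset.sum_congr rfl fun i _ => by
        rw [conj_irr_one, hd, hθu i u₀ hu₀W hu₀1 (le_normalizer hu₀W), hconst]] at horth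
    rw [← Finset.sum_mul, Finset.sum_add_distrib, ← Finset.mul_sum, hsum1, Finset.sum_const,
      Finset.card_univ, ← Nat.card_eq_fintype_card, ← hndef, nsmul_eq_mul] at horth
    simp only [oneChar, map_one, mul_one] at horth
    obtain ⟨m, hm, hmd⟩ := isIrrCharacter_degree (D.θ i₀).2
    rw [← hddef] at hmd
    rw [hmd] at horth
    have hz : ((n : ℤ) * c₀ - D.ε) * (m : ℤ) = -1 := by
      have : ((((n : ℤ) * c₀ - D.ε) * (m : ℤ) : ℤ) : ℂ) = ((-1 : ℤ) : ℂ) := by
        push_cast; linear_combination horth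
      exact_mod_cast this
    have hm1 : m = 1 := by
      have : (m : ℤ) ∣ 1 := ⟨-((n : ℤ) * c₀ - D.ε), by linear_combination hz⟩
      exact Nat.dvd_one.1 (by exact_mod_cast this)
    exact degree_ne_one hna (D.θ i₀) (exc_not_one W hA hab D i₀) (by rw [← hddef, hmd, hm1, Nat.cast_one])
  -- the exceptional characters vanish on the first class
  have hE : (D.θ i₀ : G → ℂ) y = 0 := by
    by_contra hE0
    have heq : ∀ u ∈ W, u ≠ 1 → ∀ i, (D.θ i : G → ℂ) u = (D.θ i₀ : G → ℂ) u := by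
      intro u hu hu1 i
      obtain ⟨hγ1, hγc⟩ := hγ u hu hu1
      have h1 := prod_rule hna h hy (hWu u hu hu1) (D.θ i)
      have h2 := prod_rule hna h hy (hWu u hu hu1) (D.θ i₀)
      rw [hθeq _ (hout _ hγ1 hγc) i, hd i, hθeq y hyW i, ← h2] at h1
      exact mul_left_cancel₀ hE0 h1
    set s := (i₀.1 : ↥(normalizer (W : Set G)) → ℂ) ⟨u₀, le_normalizer hu₀W⟩
    have hs : ∀ i : Exc W, (i.1 : ↥(normalizer (W : Set G)) → ℂ) ⟨u₀, le_normalizer hu₀W⟩ = s := by
      intro i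
      have h1 := heq u₀ hu₀W hu₀1 i
      rw [hθu i u₀ hu₀W hu₀1 (le_normalizer hu₀W), hθu i₀ u₀ hu₀W hu₀1 (le_normalizer hu₀W), hconst,
        add_left_inj] at h1
      exact mul_left_cancel₀ hε0 h1
    rw [Finset.sum_congr rfl fun i _ => hs i, Finset.sum_const, Finset.card_univ,
      ← Nat.card_eq_fintype_card, ← hndef, nsmul_eq_mul] at hsum1
    have hint : IsIntegral ℤ s := isCharacter_isIntegral (isCharacter_irr i₀.1) _
    have hsq : s = algebraMap ℚ ℂ (-1 / n) := by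
      have hn0 : (n : ℂ) ≠ 0 := by exact_mod_cast (by omega : n ≠ 0)
      rw [map_div₀, map_neg, map_one, map_natCast, eq_div_iff hn0]
      linear_combination hsum1
    rw [hsq, isIntegral_algebraMap_iff (algebraMap ℚ ℂ).injective,
      IsIntegrallyClosed.isIntegral_iff] at hint
    obtain ⟨z, hz⟩ := hint
    rw [eq_intCast, eq_div_iff (by exact_mod_cast (by omega : n ≠ 0))] at hz
    have hz' : z * (n : ℤ) = -1 := by exact_mod_cast hz
    have hdvd : (n : ℤ) ∣ 1 := ⟨-z, by linear_combination hz'⟩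
    have := Nat.dvd_one.1 (by exact_mod_cast hdvd : n ∣ 1)
    omega
  -- the final count
  obtain ⟨hγ1, hγc⟩ := hγ u₀ hu₀W hu₀1
  set γ := y * u₀
  have hθγ : ∀ i, (D.θ i : G → ℂ) γ = 0 := by
    intro i
    have h1 := prod_rule hna h hy (hWu u₀ hu₀W hu₀1) (D.θ i)
    rw [hθeq y hyW i, hE, zero_mul, hd] at h1
    exact (mul_eq_zero.1 h1.symm).resolve_left hd0
  have hA1 : ∑ ψ ∈ Sᶜ, Complex.normSq ((ψ : G → ℂ) γ) = (cc γ : ℝ) := by
    have h1 := sum_irr_mul_conj γ γ
    rw [if_pos (IsConj.refl γ), hsplit] at h1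
    simp only [hθγ, zero_mul, Finset.sum_const_zero, add_zero, Complex.mul_conj] at h1
    exact_mod_cast h1
  have hA2 : ∑ ψ ∈ Sᶜ, ((cst ψ : ℝ) ^ 2) ≤ (e : ℝ) := by
    have h1 := sum_irr_mul_conj u₀ u₀
    rw [if_pos (IsConj.refl u₀), hsplit, show Nat.card (centralizer ({u₀} : Set G)) = c from hWu u₀ hu₀W hu₀1,
      Finset.sum_congr (s₁ := Sᶜ) rfl (g := fun ψ => ((cst ψ : ℂ)) ^ 2) fun ψ hψ => by
        rw [hψu ψ (Finset.mem_compl.1 hψ) u₀ hu₀W hu₀1, map_intCast, sq],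
      Finset.sum_congr (s₁ := (Finset.univ : Finset (Exc W))) rfl fun i _ => by
        rw [hθu i u₀ hu₀W hu₀1 (le_normalizer hu₀W), hconst]] at h1
    have hsum1' : ∑ i : Exc W, conj ((i.1 : ↥(normalizer (W : Set G)) → ℂ) ⟨u₀, le_normalizer hu₀W⟩) = -1 := by
      rw [← map_sum, hsum1, map_neg, map_one]
    have h2 : ∀ i : Exc W,
        ((D.ε : ℂ) * (i.1 : ↥(normalizer (W : Set G)) → ℂ) ⟨u₀, le_normalizer hu₀W⟩ + c₀) *
          conj ((D.ε : ℂ) * (i.1 : ↥(normalizer (W : Set G)) → ℂ) ⟨u₀, le_normalizer hu₀W⟩ + c₀) =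
        (i.1 : ↥(normalizer (W : Set G)) → ℂ) ⟨u₀, le_normalizer hu₀W⟩ *
            conj ((i.1 : ↥(normalizer (W : Set G)) → ℂ) ⟨u₀, le_normalizer hu₀W⟩) +
          (D.ε : ℂ) * c₀ * ((i.1 : ↥(normalizer (W : Set G)) → ℂ) ⟨u₀, le_normalizer hu₀W⟩) +
          (D.ε : ℂ) * c₀ * conj ((i.1 : ↥(normalizer (W : Set G)) → ℂ) ⟨u₀, le_normalizer hu₀W⟩) +
          (c₀ : ℂ) * c₀ := by
      intro i
      rw [map_add, map_mul, map_intCast, map_intCast]
      linear_combination ((i.1 : ↥(normalizer (W : Set G)) → ℂ) ⟨u₀, le_normalizer hu₀W⟩ *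
        conj ((i.1 : ↥(normalizer (W : Set G)) → ℂ) ⟨u₀, le_normalizer hu₀W⟩)) * hε
    rw [Finset.sum_congr rfl fun i _ => h2 i] at h1
    simp only [Finset.sum_add_distrib, ← Finset.mul_sum, hsum1, hsum1', hsum2, Finset.sum_const,
      Finset.card_univ, ← Nat.card_eq_fintype_card, ← hndef, nsmul_eq_mul, hWc] at h1
    have h3 : (∑ ψ ∈ Sᶜ, cst ψ ^ 2) = (e : ℤ) + 2 * (D.ε * c₀) - (n : ℤ) * (c₀ * c₀) := by
      have : ((∑ ψ ∈ Sᶜ, cst ψ ^ 2 : ℤ) : ℂ) =
          (((e : ℤ) + 2 * (D.ε * c₀) - (n : ℤ) * (c₀ * c₀) : ℤ) : ℂ) := by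
        push_cast; linear_combination h1
      exact_mod_cast this
    have h4 : (∑ ψ ∈ Sᶜ, cst ψ ^ 2) ≤ (e : ℤ) := by
      have h5 : D.ε * c₀ ≤ c₀ * c₀ := by
        rcases D.sign with hs | hs <;> rw [hs] <;> nlinarith [Int.le_self_sq c₀, Int.le_self_sq (-c₀)]
      have h6 : (2 : ℤ) * (c₀ * c₀) ≤ (n : ℤ) * (c₀ * c₀) :=
        mul_le_mul_of_nonneg_right (by exact_mod_cast hn2) (mul_self_nonneg c₀)
      omega
    have h7 : ((∑ ψ ∈ Sᶜ, cst ψ ^ 2 : ℤ) : ℝ) ≤ ((e : ℤ) : ℝ) := by exact_mod_cast h4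
    push_cast at h7
    exact h7
  have hval : ∀ ψ ∈ Sᶜ, ψ ≠ oneChar →
      Complex.normSq ((ψ : G → ℂ) γ) ≤ (cst ψ : ℝ) ^ 2 ∧
        (Complex.normSq ((ψ : G → ℂ) γ) ≠ 0 → Complex.normSq ((ψ : G → ℂ) γ) < (cst ψ : ℝ) ^ 2) := by
    intro ψ hψ hψ1
    have h1 := prod_rule hna h hy (hWu u₀ hu₀W hu₀1) ψ
    rw [hψu ψ (Finset.mem_compl.1 hψ) u₀ hu₀W hu₀1] at h1
    obtain ⟨m, hm, hmd⟩ := isIrrCharacter_degree ψ.2
    have hlt := norm_lt_degree hna ψ (hntriv ψ hψ1) hy1
    rw [hmd, Complex.natCast_re] at hlt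
    rw [hmd] at h1
    have h2 : Complex.normSq ((ψ : G → ℂ) y) * (cst ψ : ℝ) ^ 2 =
        (m : ℝ) ^ 2 * Complex.normSq ((ψ : G → ℂ) γ) := by
      have := congrArg Complex.normSq h1
      rw [map_mul, map_mul, Complex.normSq_natCast, Complex.normSq_intCast] at this
      rw [sq, sq]; exact this
    have h3 : Complex.normSq ((ψ : G → ℂ) y) < (m : ℝ) ^ 2 := by
      rw [Complex.normSq_eq_norm_sq]
      exact pow_lt_pow_left₀ hlt (norm_nonneg _) two_ne_zero
    have h0 := Complex.normSq_nonneg ((ψ : G → ℂ) γ)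
    have h0' := Complex.normSq_nonneg ((ψ : G → ℂ) y)
    have hmpos : (0 : ℝ) < (m : ℝ) ^ 2 := lt_of_le_of_lt h0' h3
    refine ⟨?_, fun hne0 => ?_⟩
    · exact le_of_mul_le_mul_left (h2 ▸ mul_le_mul_of_nonneg_right h3.le (sq_nonneg _)) hmpos
    · refine lt_of_mul_lt_mul_left (h2 ▸ ?_) hmpos.le
      refine mul_lt_mul_of_pos_right h3 (lt_of_le_of_ne (sq_nonneg _) fun e0 => hne0 ?_)
      rw [← e0, mul_zero] at h2
      exact (mul_eq_zero.1 h2.symm).resolve_left hmpos.ne'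
  have hone1 : (cst (oneChar (G := G)) : ℝ) = 1 := by
    have h1 := hψu _ hone u₀ hu₀W hu₀1
    have h2 : (1 : ℂ) = (cst (oneChar (G := G)) : ℂ) := h1
    exact_mod_cast h2.symm
  have hγ2 : 2 ≤ cc γ := by
    haveI : Nontrivial (centralizer ({γ} : Set G)) :=
      ⟨⟨⟨γ, self_mem γ⟩, 1, fun e0 => hγ1 (congrArg Subtype.val e0)⟩⟩
    exact Finite.one_lt_card
  have hlt : (cc γ : ℝ) < (e : ℝ) := by
    refine lt_of_lt_of_le ?_ hA2
    rw [← hA1]
    have hone' : Complex.normSq (((oneChar (G := G)) : G → ℂ) γ) = (cst (oneChar (G := G)) : ℝ) ^ 2 := by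
      rw [hone1]; simp [oneChar]
    refine Finset.sum_lt_sum (fun ψ hψ => ?_) ?_
    · rcases eq_or_ne ψ oneChar with rfl | hψ1
      · exact hone'.le
      · exact (hval ψ hψ hψ1).1
    · by_contra hno
      push Not at hno
      have h1 : ∑ ψ ∈ Sᶜ, Complex.normSq ((ψ : G → ℂ) γ) = 1 := by
        rw [Finset.sum_eq_single (oneChar (G := G)) (fun ψ hψ hψ1 => by
          by_contra h0; exact absurd ((hval ψ hψ hψ1).2 h0) (hno ψ hψ).not_gt)
          (fun hm => absurd (Finset.mem_compl.2 hone) hm), hone', hone1, one_pow]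
      rw [hA1] at h1
      have : cc γ = 1 := by exact_mod_cast h1
      omega
  have hle : a ≤ cc γ := by
    rcases h.vals γ hγ1 with e0 | e0 | e0
    · exact e0.ge
    · rw [e0]; exact h.lt.le
    · exact absurd e0 hγc
  have : cc γ < e := by exact_mod_cast hlt
  omega

end CfsgLib.CIT.ThreeSizes
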