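import Cfsg.Agent.Lib.CIT.ThreeSizes.Chars
import Cfsg.Agent.Lib.CIT.CN
import Cfsg.Agent.Lib.CIT.Suz.Group
import Cfsg.Agent.Lib.Lie.PSL2Two
import Cfsg.Agent.Lib.Classical.PSL2Spectrum
import Cfsg.Agent.S0252
import Cfsg.Agent.S0494
import Cfsg.Agent.S0144

/-!
# Simple groups with three class sizes are the groups `PSL₂(2ⁿ)`
-/

set_option autoImplicit false
set_option linter.unusedSectionVars false
set_option linter.style.haveILetI false

namespace CfsgLib.CIT.ThreeSizes

open Subgroup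

universe u

variable {G : Type u} [Group G] [Finite G] [IsSimpleGroup G]

/-- With three centralizer orders no centralizer lies properly in another. -/
theorem isFGroup_of_three (hna : ¬ IsMulCommutative G)
    (h3 : Set.ncard {v : ℕ | ∃ x : G, x ≠ 1 ∧ cc x = v} = 3) : IsFGroup G := by
  classical
  intro x y hx hy hle
  by_contra hne
  have hlt : cc x < cc y := lt_of_le_of_ne (Nat.le_of_dvd Nat.card_pos (cc_le hle))
    fun e => hne (eq_of_le_of_cc hle e)
  set s := {v : ℕ | ∃ x : G, x ≠ 1 ∧ cc x = v}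
  have hsub : ({cc x, cc y} : Set ℕ) ⊆ s := by
    rintro v (rfl | rfl)
    · exact ⟨x, hx, rfl⟩
    · exact ⟨y, hy, rfl⟩
  have h1 := Set.ncard_diff hsub (Set.toFinite _)
  rw [h3, Set.ncard_pair hlt.ne] at h1
  obtain ⟨c, hc⟩ := Set.ncard_eq_one.1 h1
  have hcs : c ∈ s \ {cc x, cc y} := hc ▸ Set.mem_singleton c
  haveI : Fintype G := Fintype.ofFinite G
  refine no_chain hna (a := cc x) (b := cc y) (c := c) ⟨cc_le hle, hlt, fun v hv => ?_, ⟨y, hy, rfl⟩, hcs.1⟩
  by_cases hm : cc v ∈ ({cc x, cc y} : Set ℕ)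
  · exact hm.imp id fun h => Or.inl h
  · exact Or.inr (Or.inr (Set.mem_singleton_iff.1 (hc ▸ (⟨⟨v, hv, rfl⟩, hm⟩ : cc v ∈ s \ {cc x, cc y}))))

omit [IsSimpleGroup G] in
/-- Centralizers in such a group are nilpotent. -/
theorem isCN_of_fGroup (hF : IsFGroup G) :
    ∀ x : G, x ≠ 1 → Group.IsNilpotent (centralizer ({x} : Set G)) := by
  intro x hx
  obtain ⟨p, hp, k, hk, hle⟩ := exists_prime_pow hx
  set x' := x ^ k
  have hx' : x' ≠ 1 := fun e => hp.ne_one (by rw [← hk, e, orderOf_one])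
  rw [hF x x' hx hx' hle]
  haveI : Fact p.Prime := ⟨hp⟩
  haveI : Group.IsNilpotent (centralizer ({x'} : Set G) ⧸ center (centralizer ({x'} : Set G))) := by
    refine IsPGroup.isNilpotent (p := p) fun q => ?_
    obtain ⟨u, rfl⟩ := QuotientGroup.mk'_surjective _ q
    obtain ⟨i, n, hn, hun⟩ := Nat.exists_eq_pow_mul_and_not_dvd (orderOf_pos (u : G)).ne' p hp.ne_one
    refine ⟨i, ?_⟩
    rw [← map_pow]
    refine (QuotientGroup.eq_one_iff _).2 (mem_center_iff.2 fun g => Subtype.ext ?_)
    show (g : G) * ((u ^ p ^ i : centralizer ({x'} : Set G)) : G) = _ * (g : G)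
    rw [SubmonoidClass.coe_pow]
    set v := (u : G) ^ p ^ i with hv
    have hvm : v ∈ centralizer ({x'} : Set G) := pow_mem u.2 _
    have hco : (orderOf x').Coprime (orderOf v) := by
      rw [hk]
      refine Nat.Coprime.coprime_dvd_right (orderOf_dvd_of_pow_eq_one (n := n) ?_) ((hp.coprime_iff_not_dvd).2 hn)
      rw [hv, ← pow_mul, ← hun, pow_orderOf_eq_one]
    have hcomm : Commute x' v := (show Commute v x' from mem_C.1 hvm).symm
    have hle' : centralizer ({x' * v} : Set G) ≤ centralizer {x'} := fun g hg =>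
      mem_C.2 (mem_of_commute_mul hcomm hco (mem_C.1 hg)).1
    have hg : (g : G) ∈ centralizer ({x' * v} : Set G) := by
      rw [hF _ _ (mul_ne_one_of_coprime hx' hco) hx' hle']; exact g.2
    exact (mem_of_commute_mul hcomm hco (mem_C.1 hg)).2
  exact Group.of_quotient_center_nilpotent inferInstance

/-- Centralizers of squares are no larger. -/
def NoGap (G : Type*) [Group G] : Prop :=
  ∀ x g : G, x * x ≠ 1 → g * (x * x) = x * x * g → g * x = x * g

omit [Finite G] [IsSimpleGroup G] in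
theorem NoGap.of_mulEquiv {H : Type*} [Group H] (h : NoGap G) (e : G ≃* H) : NoGap H := by
  intro x g hx hg
  have := h (e.symm x) (e.symm g) (fun e0 => hx (by
    have := congrArg e e0
    rwa [map_mul, e.apply_symm_apply, map_one] at this)) (by rw [← map_mul, ← map_mul, ← map_mul, hg])
  have := congrArg e this
  rwa [map_mul, map_mul, e.apply_symm_apply, e.apply_symm_apply] at this

omit [Finite G] [IsSimpleGroup G] in
theorem noGap_of_fGroup (hF : IsFGroup G) : NoGap G := fun x g hx hg => by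
  have hle : centralizer ({x} : Set G) ≤ centralizer {x * x} := fun u hu => by
    rw [← pow_two]; exact C_le_pow x 2 hu
  have hmem : g ∈ centralizer ({x * x} : Set G) := mem_C.2 hg
  rw [← hF x _ (fun e => hx (by rw [e, one_mul])) hx hle] at hmem
  exact mem_C.1 hmem

open CfsgLib.PSL2Two in
theorem not_noGap_psl_two {K : Type} [Field K] [Fintype K]
    (h8 : Fintype.card K % 8 = 1 ∨ Fintype.card K % 8 = 7) :
    ¬ NoGap (Matrix.ProjectiveSpecialLinearGroup (Fin 2) K) := by
  intro hgap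
  have hodd : Fintype.card K % 2 = 1 := by omega
  have h2 := two_ne_zero_of_odd hodd
  obtain ⟨s, hs⟩ : IsSquare (2 : K) := FiniteField.isSquare_two_iff.2 ⟨by omega, by omega⟩
  obtain ⟨a, b, hab⟩ := exists_sq_add_sq hodd (-1 : K)
  have hs0 : s ≠ 0 := fun e => h2 (by rw [hs, e, mul_zero])
  obtain ⟨x, hx⟩ : ∃ x : SL2 K, x.1 = !![1 / s, -(1 / s); 1 / s, 1 / s] :=
    ⟨⟨_, by rw [Matrix.det_fin_two_of]; field_simp; linear_combination hs⟩, rfl⟩
  obtain ⟨g, hg⟩ : ∃ g : SL2 K, g.1 = !![a, b; b, -a] :=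
    ⟨⟨_, by rw [Matrix.det_fin_two_of]; linear_combination -hab⟩, rfl⟩
  have hxx : (x * x).1 = !![0, -1; 1, 0] := by
    rw [val_mul, hx, Matrix.mul_fin_two]
    ext i j
    fin_cases i <;> fin_cases j <;> simp <;> field_simp <;>
      first
        | linear_combination hs
        | linear_combination -hs
        | ring
  have hJ : π x * π x ≠ 1 := fun e => by
    rw [← map_mul, π_eq_one_iff, hxx] at e
    rcases e with e | e
    · have := congrFun (congrFun e 1) 0; simp at this
    · have := congrFun (congrFun e 1) 0; simp at this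
  have hcomm : π g * (π x * π x) = π x * π x * π g := by
    rw [← map_mul, ← map_mul, ← map_mul, π_eq_iff]
    right
    rw [val_mul g (x * x), val_mul (x * x) g, hxx, hg, Matrix.mul_fin_two, Matrix.mul_fin_two]
    ext i j
    fin_cases i <;> fin_cases j <;> simp
  have h := hgap _ _ hJ hcomm
  rw [← map_mul, ← map_mul, π_eq_iff, val_mul, val_mul, hx, hg, Matrix.mul_fin_two, Matrix.mul_fin_two] at h
  have key : a = 0 ∧ b = 0 := by
    rcases h with h | h <;>
    · have e00 := congrFun (congrFun h 0) 0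
      have e01 := congrFun (congrFun h 0) 1
      simp at e00 e01
      constructor <;> apply mul_left_cancel₀ (mul_ne_zero h2 (one_div_ne_zero hs0)) <;>
        first
          | linear_combination e00
          | linear_combination -e00
          | linear_combination e01
          | linear_combination -e01
  rw [key.1, key.2] at hab
  simp at hab

open scoped MatrixGroups in
theorem not_noGap_psl_three {K : Type} [Field K] [CharP K 2] :
    ¬ NoGap (Matrix.ProjectiveSpecialLinearGroup (Fin 3) K) := by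
  intro hgap
  obtain ⟨x, hx⟩ : ∃ x : Matrix.SpecialLinearGroup (Fin 3) K, x.1 = !![1, 1, 0; 0, 1, 1; 0, 0, 1] :=
    ⟨⟨_, by simp [Matrix.det_fin_three]⟩, rfl⟩
  obtain ⟨g, hg⟩ : ∃ g : Matrix.SpecialLinearGroup (Fin 3) K, g.1 = !![1, 1, 0; 0, 1, 0; 0, 0, 1] :=
    ⟨⟨_, by simp [Matrix.det_fin_three]⟩, rfl⟩
  have hxx : (x * x).1 = !![1, 0, 1; 0, 1, 0; 0, 0, 1] := by
    rw [Matrix.SpecialLinearGroup.coe_mul, hx]
    ext i j
    fin_cases i <;> fin_cases j <;> simp [Matrix.mul_apply, Fin.sum_univ_three, CharTwo.add_self_eq_zero]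
  set π := QuotientGroup.mk' (Subgroup.center (Matrix.SpecialLinearGroup (Fin 3) K))
  have hsc : ∀ A B : Matrix.SpecialLinearGroup (Fin 3) K, π A = π B → ∃ r : K, B.1 = r • A.1 := by
    intro A B hAB
    obtain ⟨r, -, hr⟩ := Matrix.SpecialLinearGroup.mem_center_iff.1 (QuotientGroup.eq.1 hAB)
    refine ⟨r, ?_⟩
    calc B.1 = (A * (A⁻¹ * B)).1 := by rw [mul_inv_cancel_left]
      _ = A.1 * Matrix.scalar (Fin 3) r := by rw [Matrix.SpecialLinearGroup.coe_mul, ← hr]
      _ = r • A.1 := by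
        rw [Matrix.scalar_apply, ← Matrix.smul_one_eq_diagonal, Matrix.mul_smul, mul_one]
  have hne : π x * π x ≠ 1 := fun e => by
    rw [← map_mul, ← map_one π] at e
    obtain ⟨r, hr⟩ := hsc _ _ e.symm
    rw [hxx] at hr
    have := congrFun (congrFun hr 0) 2
    simp at this
  have hcomm : π g * (π x * π x) = π x * π x * π g := by
    rw [← map_mul, ← map_mul, ← map_mul]
    refine congrArg π (Subtype.ext ?_)
    rw [Matrix.SpecialLinearGroup.coe_mul g (x * x), Matrix.SpecialLinearGroup.coe_mul (x * x) g, hxx, hg]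
    ext i j
    fin_cases i <;> fin_cases j <;> simp [Matrix.mul_apply, Fin.sum_univ_three]
  have h := hgap _ _ hne hcomm
  rw [← map_mul, ← map_mul] at h
  obtain ⟨r, hr⟩ := hsc _ _ h
  rw [Matrix.SpecialLinearGroup.coe_mul, Matrix.SpecialLinearGroup.coe_mul, hx, hg] at hr
  have e00 := congrFun (congrFun hr 0) 0
  have e02 := congrFun (congrFun hr 0) 2
  simp [Matrix.mul_apply, Fin.sum_univ_three] at e00 e02
  exact one_ne_zero (e00.trans e02.symm)

open CfsgLib.CIT.Suz CfsgLib.Lie.Suz in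
theorem not_noGap_suz {F : Type} [Field F] [Fintype F] {m : ℕ} (hm : 1 ≤ m)
    (hF : Fintype.card F = 2 ^ (2 * m + 1)) : ¬ NoGap (Cfsg.Sz F m) := by
  intro hgap
  have hS := isSuzField hF
  have hxx : TS hF (1 : F) 0 * TS hF 1 0 = (TS hF 0 1 : Cfsg.Sz F m) := by
    rw [TS_mul, add_self hS, th_one hS, mul_one, add_zero, zero_add]
  obtain ⟨a, ha⟩ := exists_th_ne hm hF
  have h := hgap (TS hF 1 0) (TS hF a 0) (fun e => by
    rw [hxx, ← TS_zero hF] at e
    exact one_ne_zero (congrArg Prod.snd (TS_injective hF (a₁ := ((0 : F), (1 : F))) (a₂ := ((0 : F), (0 : F))) e)))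
    (by rw [hxx, TS_comm])
  rw [TS_mul, TS_mul, th_one hS] at h
  have h2 := congrArg Prod.snd (TS_injective hF (a₁ := (a + 1, (0 : F) + 0 + th m a * 1))
    (a₂ := (1 + a, (0 : F) + 0 + 1 * a)) h)
  simp at h2
  exact ha h2

/-- A simple group with three centralizer orders is `PSL₂(2ⁿ)`. -/
theorem psl_of_three (hna : ¬ IsMulCommutative G)
    (h3 : Set.ncard {v : ℕ | ∃ x : G, x ≠ 1 ∧ cc x = v} = 3) :
    ∃ (n : ℕ) (F : Type) (_ : Field F) (_ : Fintype F), 2 ≤ n ∧ Fintype.card F = 2 ^ n ∧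
      Nonempty (G ≃* Matrix.ProjectiveSpecialLinearGroup (Fin 2) F) := by
  have hF := isFGroup_of_three hna h3
  have hgap := noGap_of_fGroup hF
  rcases simple_cn_cases (isCN_of_fGroup hF) hna with ⟨K, iK, iK', hq, ⟨e⟩⟩ | ⟨K, iK, iK', h4, ⟨e⟩⟩ | hsz
  · have h1 := hgap.of_mulEquiv e
    rcases hq with h | ⟨n, hn, hK⟩ | ⟨hp, k, hk⟩
    · exact absurd h1 (not_noGap_psl_two (by omega))
    · exact ⟨n, K, iK, iK', hn, hK, ⟨e⟩⟩
    · haveI := e.symm.toEquiv.nontrivial
      haveI : IsSimpleGroup (Matrix.ProjectiveSpecialLinearGroup (Fin 2) K) := e.symm.isSimpleGroup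
      have hcard := CfsgLib.Classical.card_psl2 (F := K)
      have hnsolv : ∀ i j : ℕ,
          Nat.card (Matrix.ProjectiveSpecialLinearGroup (Fin 2) K) = 2 ^ i * 3 ^ j → False := fun i j hij =>
        hna (isMulCommutative_iff.2 fun a b => e.injective (by
          rw [map_mul, map_mul]
          exact IsSimpleGroup.comm_iff_isSolvable.2
            (Cfsg.Agent.S0144.result 2 3 i j Nat.prime_two Nat.prime_three hij) _ _))
      rcases (show Fintype.card K = 2 ∨ Fintype.card K = 3 ∨ Fintype.card K = 5 ∨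
          (Fintype.card K % 8 = 1 ∨ Fintype.card K % 8 = 7) by
        rcases lt_or_ge k 3 with hk3 | hk3
        · have := hp.two_le
          interval_cases k <;> omega
        · obtain ⟨j, rfl⟩ : ∃ j, k = 3 + j := ⟨k - 3, by omega⟩
          rw [pow_add] at hk
          omega) with h | h | h | h
      · rw [h, show Nat.gcd 2 (2 - 1) = 1 from rfl] at hcard
        exact (hnsolv 1 1 (by omega)).elim
      · rw [h, show Nat.gcd 2 (3 - 1) = 2 from rfl] at hcard
        exact (hnsolv 2 1 (by omega)).elim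
      · rw [h, show Nat.gcd 2 (5 - 1) = 2 from rfl] at hcard
        obtain ⟨α⟩ := Cfsg.Agent.S0494.result (G := G) (by rw [Nat.card_congr e.toEquiv]; omega)
        letI := Fintype.ofFinite (GaloisField 2 2)
        have h4F : Fintype.card (GaloisField 2 2) = 4 := by
          rw [← Nat.card_eq_fintype_card, GaloisField.card 2 2 two_ne_zero]; norm_num
        obtain ⟨β⟩ := Cfsg.Agent.S0252.result (F := GaloisField 2 2) h4F
        exact ⟨2, GaloisField 2 2, inferInstance, inferInstance, le_rfl, h4F, ⟨α.trans β.symm⟩⟩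
      · exact absurd h1 (not_noGap_psl_two h)
  · haveI : CharP K 2 := CfsgLib.Classical.PSL2Spectrum.char_two_of_dvd (h4 ▸ by norm_num)
    exact absurd (hgap.of_mulEquiv e) not_noGap_psl_three
  · obtain ⟨F, iF, iF', m, hm, hFc, ⟨e⟩⟩ := hsz
    obtain ⟨e'⟩ := CfsgLib.Lie.Suz.exists_twEquiv (F := F) hm hFc
    exact absurd (hgap.of_mulEquiv (e.trans e'.symm)) (not_noGap_suz hm hFc)

end CfsgLib.CIT.ThreeSizes
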