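import Mathlib.GroupTheory.Sylow
import Mathlib.GroupTheory.Nilpotent
import Cfsg.Agent.Lib.Char.Burnside

/-!
# Simple groups with three class sizes: the coprime pair

If one centralizer is properly contained in another then the sizes of two classes are coprime, the
elements of one class never commute with those of the other, and one of the two centralizers is an
abelian Hall subgroup equal to the centralizer of each of its nontrivial elements.
-/

set_option autoImplicit false
set_option linter.unusedSectionVars false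
set_option linter.style.haveILetI false

namespace CfsgLib.CIT.ThreeSizes

open Subgroup

universe u

/-- The order of a centralizer. -/
noncomputable abbrev cc {G : Type u} [Group G] (x : G) : ℕ := Nat.card (centralizer ({x} : Set G))

/-- No centralizer of a nontrivial element lies properly in another one. -/
def IsFGroup (G : Type u) [Group G] : Prop :=
  ∀ x y : G, x ≠ 1 → y ≠ 1 → centralizer ({x} : Set G) ≤ centralizer {y} →
    centralizer ({x} : Set G) = centralizer {y}

variable {G : Type u} [Group G]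

local notation "C[" x "]" => centralizer ({x} : Set G)

theorem mem_C {x g : G} : g ∈ C[x] ↔ g * x = x * g := mem_centralizer_singleton_iff

theorem self_mem (x : G) : x ∈ C[x] := mem_C.2 rfl

theorem C_le_pow (x : G) (k : ℕ) : C[x] ≤ C[x ^ k] := fun _ hg =>
  mem_C.2 ((show Commute _ x from mem_C.1 hg).pow_right k).eq

theorem mem_of_commute_mul {x v g : G} (h : Commute x v) (hco : (orderOf x).Coprime (orderOf v))
    (hg : g * (x * v) = x * v * g) : g * x = x * g ∧ g * v = v * g := by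
  have key : ∀ {x v : G}, Commute x v → (orderOf x).Coprime (orderOf v) →
      g * (x * v) = x * v * g → g * x = x * g := by
    intro x v h hco hg
    obtain ⟨k, hk⟩ := exists_pow_eq_self_of_coprime (x := x) (n := orderOf v) hco.symm
    have e : (x * v) ^ orderOf v = x ^ orderOf v := by rw [h.mul_pow, pow_orderOf_eq_one, mul_one]
    have h1 : Commute g ((x * v) ^ orderOf v) := (show Commute g (x * v) from hg).pow_right _
    rw [e] at h1
    have h2 := h1.pow_right k
    rwa [hk] at h2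
  exact ⟨key h hco hg, key h.symm hco.symm (by rw [← h.eq]; exact hg)⟩

theorem mul_ne_one_of_coprime {x v : G} (hx : x ≠ 1) (hco : (orderOf x).Coprime (orderOf v)) :
    x * v ≠ 1 := fun e => hx (by
  rw [← inv_eq_of_mul_eq_one_right e, orderOf_inv, Nat.coprime_self] at hco
  exact orderOf_eq_one_iff.1 hco)

variable [Finite G]

theorem cc_le {x y : G} (h : C[x] ≤ C[y]) : cc x ∣ cc y := card_dvd_of_le h

theorem eq_of_le_of_cc {x y : G} (h : C[x] ≤ C[y]) (he : cc x = cc y) : C[x] = C[y] :=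
  eq_of_le_of_card_ge h he.ge

theorem orderOf_dvd_cc {x g : G} (h : g ∈ C[x]) : orderOf g ∣ cc x := orderOf_dvd_natCard _ h

/-- A power of prime order, with a larger centralizer. -/
theorem exists_prime_pow {x : G} (hx : x ≠ 1) :
    ∃ r : ℕ, r.Prime ∧ ∃ k : ℕ, orderOf (x ^ k) = r ∧ C[x] ≤ C[x ^ k] := by
  obtain ⟨r, hr, hd⟩ := Nat.exists_prime_and_dvd (fun e => hx (orderOf_eq_one_iff.1 e))
  exact ⟨r, hr, orderOf x / r, orderOf_pow_orderOf_div (orderOf_pos x).ne' hd, C_le_pow x _⟩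

/-- The centralizer order of a central element of a Sylow subgroup. -/
theorem exists_full (p : ℕ) (hp : p.Prime) (hd : p ∣ Nat.card G) :
    ∃ z : G, orderOf z = p ∧ ∀ k : ℕ, p ^ k ∣ Nat.card G → p ^ k ∣ cc z := by
  haveI : Fact p.Prime := ⟨hp⟩
  obtain ⟨P⟩ : Nonempty (Sylow p G) := inferInstance
  haveI : Nontrivial (P : Subgroup G) :=
    (Subgroup.nontrivial_iff_ne_bot _).2 (P.ne_bot_of_dvd_card hd)
  haveI := P.2.center_nontrivial
  obtain ⟨n, hn⟩ := (P.2.to_subgroup (center (P : Subgroup G))).exists_card_eq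
  have hpd : p ∣ Nat.card (center (P : Subgroup G)) := by
    have h1 : 1 < Nat.card (center (P : Subgroup G)) := Finite.one_lt_card
    rw [hn] at h1 ⊢
    exact dvd_pow_self p (fun e => by rw [e, pow_zero] at h1; omega)
  obtain ⟨z, hz⟩ := exists_prime_orderOf_dvd_card' p hpd
  refine ⟨((z : (P : Subgroup G)) : G), by rw [orderOf_coe, orderOf_coe, hz], fun k hk => ?_⟩
  exact ((Sylow.pow_dvd_card_of_pow_dvd_card P hk)).trans (card_dvd_of_le fun g hg =>
    mem_C.2 (congrArg Subtype.val (mem_center_iff.1 z.2 ⟨g, hg⟩)))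

variable [IsSimpleGroup G]

theorem center_eq_bot (hna : ¬ IsMulCommutative G) : center G = ⊥ :=
  (center G).normal_of_characteristic.eq_bot_or_eq_top.resolve_right fun h =>
    hna (isMulCommutative_iff.2 fun a b => (mem_center_iff.1 (h ▸ mem_top b) a))

theorem C_ne_top (hna : ¬ IsMulCommutative G) {x : G} (hx : x ≠ 1) : C[x] ≠ ⊤ := fun h => hx (by
  have : x ∈ center G := mem_center_iff.2 fun g => mem_C.1 (h ▸ mem_top g)
  rwa [center_eq_bot hna, mem_bot] at this)

theorem index_ne_prime_pow (hna : ¬ IsMulCommutative G) {x : G} (hx : x ≠ 1) {p : ℕ} (hp : p.Prime)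
    (h : ∀ q : ℕ, q.Prime → q ∣ (C[x]).index → q = p) : False :=
  hna (isMulCommutative_iff.2 (CfsgLib.Char.comm_of_class_prime_pow hp hx
    (Nat.eq_prime_pow_of_unique_prime_dvd index_ne_zero_of_finite fun {q} hq hd => h q hq hd)))

theorem eq_bot_or_top_of_conj {H : Subgroup G} {y : G} (hy : ∀ g : G, g * y * g⁻¹ ∈ H) (hy1 : y ≠ 1) :
    H = ⊤ := by
  rcases (normalClosure_normal (s := ({y} : Set G))).eq_bot_or_eq_top with h | h
  · have := subset_normalClosure (Set.mem_singleton y)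
    rw [h] at this
    exact absurd (mem_bot.1 this) hy1
  · refine eq_top_iff.2 (h ▸ (closure_le _).2 fun g hg => ?_)
    obtain ⟨y', hy', hc⟩ := Group.mem_conjugatesOfSet_iff.1 hg
    rw [Set.mem_singleton_iff.1 hy'] at hc
    obtain ⟨d, rfl⟩ := isConj_iff.1 hc
    exact hy d

/-- The situation with a properly contained centralizer. -/
structure Chain (G : Type u) [Group G] (a b c : ℕ) : Prop where
  dvd : a ∣ b
  lt : a < b
  vals : ∀ x : G, x ≠ 1 → cc x = a ∨ cc x = b ∨ cc x = c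
  exb : ∃ y : G, y ≠ 1 ∧ cc y = b
  exc : ∃ w : G, w ≠ 1 ∧ cc w = c

variable (hna : ¬ IsMulCommutative G) {a b c : ℕ} (h : Chain G a b c)

include hna h

theorem dvd_lcm : Nat.card G ∣ Nat.lcm b c := by
  rw [Nat.dvd_iff_prime_pow_dvd_dvd]
  intro p k hp hk
  rcases Nat.eq_zero_or_pos k with rfl | hk0
  · rw [pow_zero]; exact one_dvd _
  obtain ⟨z, hz, hfull⟩ := exists_full p hp ((dvd_pow_self p hk0.ne').trans hk)
  have hd := hfull k hk
  rcases h.vals z (fun e => hp.ne_one (by rw [← hz, e, orderOf_one])) with e | e | e <;> rw [e] at hd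
  · exact (hd.trans h.dvd).trans (Nat.dvd_lcm_left b c)
  · exact hd.trans (Nat.dvd_lcm_left b c)
  · exact hd.trans (Nat.dvd_lcm_right b c)

theorem not_dvd : ¬ b ∣ c ∧ ¬ c ∣ b := by
  obtain ⟨y, hy, rfl⟩ := h.exb
  obtain ⟨w, hw, rfl⟩ := h.exc
  constructor <;> intro hd
  · refine C_ne_top hna hw (eq_top_of_card_eq _ (Nat.dvd_antisymm (card_subgroup_dvd_card _) ?_))
    have := dvd_lcm hna h
    rwa [Nat.lcm_eq_right hd] at this
  · refine C_ne_top hna hy (eq_top_of_card_eq _ (Nat.dvd_antisymm (card_subgroup_dvd_card _) ?_))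
    have := dvd_lcm hna h
    rwa [Nat.lcm_eq_left hd] at this

theorem ne_bc : b ≠ c := fun e => (not_dvd hna h).1 (dvd_of_eq e)

theorem ne_ac : a ≠ c := fun e => (not_dvd hna h).2 (e ▸ h.dvd)

theorem max_b {y v : G} (hy : cc y = b) (hv : v ≠ 1) (hle : C[y] ≤ C[v]) : C[y] = C[v] := by
  refine eq_of_le_of_cc hle ?_
  have hd := cc_le hle
  rw [hy] at hd ⊢
  rcases h.vals v hv with e | e | e <;> rw [e] at hd ⊢
  · exact absurd (Nat.le_of_dvd (e ▸ Nat.card_pos) hd) (Nat.not_le.2 h.lt)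
  · exact absurd hd (not_dvd hna h).1

theorem max_c {w v : G} (hw : cc w = c) (hv : v ≠ 1) (hle : C[w] ≤ C[v]) : C[w] = C[v] := by
  refine eq_of_le_of_cc hle ?_
  have hd := cc_le hle
  rw [hw] at hd ⊢
  rcases h.vals v hv with e | e | e <;> rw [e] at hd ⊢
  · exact absurd (hd.trans h.dvd) (not_dvd hna h).2
  · exact absurd hd (not_dvd hna h).2

theorem min_a {x v : G} (hx : cc x = a) (hv : v ≠ 1) (hle : C[v] ≤ C[x]) : C[v] = C[x] := by
  refine eq_of_le_of_cc hle ?_
  have hd := cc_le hle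
  rw [hx] at hd ⊢
  rcases h.vals v hv with e | e | e <;> rw [e] at hd ⊢
  · exact absurd (Nat.le_of_dvd (hx ▸ Nat.card_pos) hd) (Nat.not_le.2 h.lt)
  · exact absurd (hd.trans h.dvd) (not_dvd hna h).2

/-- In a minimal centralizer the elements of coprime order are central. -/
theorem central_a {x u g : G} (hx : cc x = a) (hx1 : x ≠ 1) (hu : u ∈ C[x])
    (hco : (orderOf x).Coprime (orderOf u)) (hg : g ∈ C[x]) : g * u = u * g := by
  have hle : C[x * u] ≤ C[x] := fun g hg =>
    mem_C.2 (mem_of_commute_mul (show Commute u x from mem_C.1 hu).symm hco (mem_C.1 hg)).1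
  rw [← min_a hna h hx (mul_ne_one_of_coprime hx1 hco) hle] at hg
  exact (mem_of_commute_mul (show Commute u x from mem_C.1 hu).symm hco (mem_C.1 hg)).2

theorem coprime_index {y w : G} (hy : cc y = b) (hw : cc w = c) :
    Nat.Coprime (C[y]).index (C[w]).index := by
  refine Nat.coprime_of_dvd' fun p hp hpy hpw => ?_
  obtain ⟨i, hi⟩ := hpy
  obtain ⟨j, hj⟩ := hpw
  have h1 := card_mul_index C[y]
  have h2 := card_mul_index C[w]
  rw [hi] at h1
  rw [hj] at h2
  have hdiv : p * Nat.lcm b c ∣ Nat.card G := by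
    rw [← Nat.lcm_mul_left]
    refine Nat.lcm_dvd ⟨i, ?_⟩ ⟨j, ?_⟩
    · rw [← h1, ← hy]; ring
    · rw [← h2, ← hw]; ring
  have hpos : 0 < Nat.lcm b c := Nat.lcm_pos (hy ▸ Nat.card_pos) (hw ▸ Nat.card_pos)
  have h3 : p * Nat.lcm b c ≤ Nat.lcm b c := Nat.le_of_dvd hpos (hdiv.trans (dvd_lcm hna h))
  have h4 : 2 * Nat.lcm b c ≤ p * Nat.lcm b c := Nat.mul_le_mul_right _ hp.two_le
  omega

/-- The group is the product of the two centralizers. -/
theorem exists_mul {y w : G} (hy : cc y = b) (hw : cc w = c) (g : G) :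
    ∃ k ∈ C[y], ∃ d ∈ C[w], g = k * d := by
  classical
  obtain ⟨B, hB⟩ : ∃ B : Subgroup G, B = C[y] := ⟨_, rfl⟩
  obtain ⟨W, hW⟩ : ∃ W : Subgroup G, W = C[w] := ⟨_, rfl⟩
  rw [← hB, ← hW]
  have hco : Nat.Coprime B.index W.index := by rw [hB, hW]; exact coprime_index hna h hy hw
  have hrel : W.index ≤ W.relIndex B := by
    have h1 : (W ⊓ B).relIndex B * B.index = (W ⊓ B).index := relIndex_mul_index inf_le_right
    have h2 : (W ⊓ B).relIndex W * W.index = (W ⊓ B).index := relIndex_mul_index inf_le_left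
    rw [inf_relIndex_right] at h1
    have h3 : W.index ∣ W.relIndex B * B.index := ⟨_, by rw [h1, ← h2, mul_comm]⟩
    exact Nat.le_of_dvd (Nat.pos_of_ne_zero index_ne_zero_of_finite) (hco.symm.dvd_of_dvd_mul_right h3)
  let f : B ⧸ W.subgroupOf B → G ⧸ W :=
    Quotient.map' (fun x : B => (x : G)) fun x x' hx =>
      QuotientGroup.leftRel_apply.2 (mem_subgroupOf.1 (QuotientGroup.leftRel_apply.1 hx))
  have hinj : Function.Injective f := by
    intro x x'
    induction x using QuotientGroup.induction_on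
    induction x' using QuotientGroup.induction_on
    intro he
    exact QuotientGroup.eq.2 (mem_subgroupOf.2 (QuotientGroup.eq.1 he))
  haveI : Fintype (B ⧸ W.subgroupOf B) := Fintype.ofFinite _
  haveI : Fintype (G ⧸ W) := Fintype.ofFinite _
  have hbij : Function.Bijective f := by
    refine (Fintype.bijective_iff_injective_and_card f).2 ⟨hinj, le_antisymm
      (Fintype.card_le_of_injective f hinj) ?_⟩
    rw [← Nat.card_eq_fintype_card, ← Nat.card_eq_fintype_card]
    exact hrel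
  obtain ⟨x, hx⟩ := hbij.2 (g : G ⧸ W)
  induction x using QuotientGroup.induction_on with
  | H x => exact ⟨x, x.2, (x : G)⁻¹ * g, QuotientGroup.eq.1 hx, by group⟩

/-- A pair in the two classes is conjugate to the given pair. -/
theorem pair_conj {y w : G} (hy : cc y = b) (hw : cc w = c) (g₁ g₂ : G) :
    ∃ g : G, g * y * g⁻¹ = g₁ * y * g₁⁻¹ ∧ g * w * g⁻¹ = g₂ * w * g₂⁻¹ := by
  obtain ⟨k, hk, d, hd, e⟩ := exists_mul hna h hy hw (g₁⁻¹ * g₂)
  refine ⟨g₁ * k, ?_, ?_⟩
  · rw [show g₁ * k * y * (g₁ * k)⁻¹ = g₁ * (k * y) * k⁻¹ * g₁⁻¹ by group, mem_C.1 hk]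
    group
  · rw [show g₂ = g₁ * k * d by rw [show g₁ * k * d = g₁ * (k * d) by group, ← e]; group,
      show g₁ * k * d * w * (g₁ * k * d)⁻¹ = g₁ * k * (d * w) * d⁻¹ * k⁻¹ * g₁⁻¹ by group, mem_C.1 hd]
    group

/-- The two classes do not commute. -/
theorem not_commute {y w : G} (hy : cc y = b) (hw : cc w = c) (hy1 : y ≠ 1) (hw1 : w ≠ 1) :
    y ∉ C[w] := by
  intro hm
  refine C_ne_top hna hw1 (eq_bot_or_top_of_conj (fun g => ?_) hy1)
  obtain ⟨k, hk, d, hd, e⟩ := exists_mul hna h hy hw g⁻¹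
  have e' : g = d⁻¹ * k⁻¹ := by rw [← mul_inv_rev, ← e, inv_inv]
  have hky : k⁻¹ * y * k = y := by rw [mul_assoc, ← mem_C.1 hk, inv_mul_cancel_left]
  rw [e', show d⁻¹ * k⁻¹ * y * (d⁻¹ * k⁻¹)⁻¹ = d⁻¹ * (k⁻¹ * y * k) * d by group, hky]
  exact mul_mem (mul_mem (inv_mem hd) hm) hd

theorem card_mul_eq : b * c = Nat.card G ∧ b.Coprime c := by
  obtain ⟨y₀, hy₀, hyb⟩ := h.exb
  obtain ⟨w₀, hw₀, hwc⟩ := h.exc
  have hbc : b * c = Nat.card G := by
    by_contra hne
    -- every pair of centralizers meets, in elements of one prime order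
    have key : ∀ {y w : G} {r s : ℕ}, cc y = b → cc w = c → r.Prime → s.Prime →
        orderOf y = r → orderOf w = s → r = s := by
      intro y w r s hy hw hr hs hyo hwo
      have hy1 : y ≠ 1 := fun e => hr.ne_one (by rw [← hyo, e, orderOf_one])
      have hw1 : w ≠ 1 := fun e => hs.ne_one (by rw [← hwo, e, orderOf_one])
      have hI : C[y] ⊓ C[w] ≠ ⊥ := fun e => by
        apply hne
        have hco := coprime_index hna h hy hw
        have h1 := card_mul_index C[y]
        have h2 := card_mul_index C[w]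
        have h3 := index_inf_le (H := C[y]) (K := C[w])
        rw [e, index_bot] at h3
        have h4 : (C[y]).index * (C[w]).index ∣ Nat.card G :=
          hco.mul_dvd_of_dvd_of_dvd (index_dvd_card _) (index_dvd_card _)
        have h5 := le_antisymm h3 (Nat.le_of_dvd Nat.card_pos h4)
        rw [← hy, ← hw]
        have hpos : 0 < Nat.card G := Nat.card_pos
        apply Nat.eq_of_mul_eq_mul_right hpos
        calc cc y * cc w * Nat.card G = (cc y * (C[y]).index) * (cc w * (C[w]).index) := by rw [h5]; ring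
          _ = Nat.card G * Nat.card G := by rw [h1, h2]
      obtain ⟨⟨v₀, hv₀⟩, hv1⟩ := ne_bot_iff_exists_ne_one.1 hI
      have hv₀1 : v₀ ≠ 1 := fun e => hv1 (Subtype.ext e)
      obtain ⟨p, hp, k, hk, -⟩ := exists_prime_pow hv₀1
      set v := v₀ ^ k
      have hvI : v ∈ C[y] ⊓ C[w] := pow_mem hv₀ k
      obtain ⟨hvy, hvw⟩ := mem_inf.1 hvI
      have hv : v ≠ 1 := fun e => hp.ne_one (by rw [← hk, e, orderOf_one])
      have hva : cc v = a := by
        rcases h.vals v hv with e | e | e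
        · exact e
        · exact absurd hvw (not_commute hna h e hw hv hw1)
        · exact absurd (mem_C.2 (mem_C.1 hvy).symm) (not_commute hna h hy e hy1 hv)
      have hrp : ∀ {u : G} {t : ℕ}, u ∈ C[v] → t.Prime → orderOf u = t → t ≠ p →
          ∀ g ∈ C[v], g * u = u * g := fun {u t} hu ht hut htp g hg =>
        central_a hna h hva hv hu (by rw [hk, hut]; exact (Nat.coprime_primes hp ht).2 htp.symm) hg
      have hyv : y ∈ C[v] := mem_C.2 (mem_C.1 hvy).symm
      have hwv : w ∈ C[v] := mem_C.2 (mem_C.1 hvw).symm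
      by_contra hrs
      have : w * y = y * w := by
        rcases eq_or_ne r p with rfl | hrp'
        · exact (hrp hwv hs hwo (Ne.symm hrs) y hyv).symm
        · exact hrp hyv hr hyo hrp' w hwv
      exact not_commute hna h hy hw hy1 hw1 (mem_C.2 this.symm)
    obtain ⟨r, hr, k, hk, hle⟩ := exists_prime_pow hy₀
    obtain ⟨s, hs, l, hl, hle'⟩ := exists_prime_pow hw₀
    have hy1 : y₀ ^ k ≠ 1 := fun e => hr.ne_one (by rw [← hk, e, orderOf_one])
    have hw1 : w₀ ^ l ≠ 1 := fun e => hs.ne_one (by rw [← hl, e, orderOf_one])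
    have hy : cc (y₀ ^ k) = b := by
      rw [← hyb]; show Nat.card C[y₀ ^ k] = Nat.card C[y₀]; rw [max_b hna h hyb hy1 hle]
    have hw : cc (w₀ ^ l) = c := by
      rw [← hwc]; show Nat.card C[w₀ ^ l] = Nat.card C[w₀]; rw [max_c hna h hwc hw1 hle']
    have hrs := key hy hw hr hs hk hl
    refine index_ne_prime_pow hna hy₀ (p := r) hr fun q hq hqd => ?_
    by_contra hqr
    have hqG : q ∣ Nat.card G := hqd.trans (index_dvd_card _)
    obtain ⟨z, hz, hfull⟩ := exists_full q hq hqG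
    have hz1 : z ≠ 1 := fun e => hq.ne_one (by rw [← hz, e, orderOf_one])
    have hza : cc z ∣ b := by
      rcases h.vals z hz1 with e | e | e
      · exact e ▸ h.dvd
      · exact dvd_of_eq e
      · exact absurd (key hy e hr hq hk hz).symm hqr
    obtain ⟨n, hn⟩ := hqd
    obtain ⟨e, m, hm, hbm⟩ := Nat.exists_eq_pow_mul_and_not_dvd (n := b) (hyb ▸ Nat.card_pos.ne') q hq.ne_one
    have h1 := card_mul_index C[y₀]
    have h2 : q ^ (e + 1) ∣ b := (hfull (e + 1) ⟨m * n, by
      rw [← h1, show Nat.card C[y₀] = b from hyb, hbm, hn, pow_succ]; ring⟩).trans hza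
    rw [hbm, pow_succ] at h2
    exact hm ((Nat.mul_dvd_mul_iff_left (pow_pos hq.pos e)).1 h2)
  refine ⟨hbc, ?_⟩
  have hco := coprime_index hna h hyb hwc
  have h1 := card_mul_index C[y₀]
  have h2 := card_mul_index C[w₀]
  rw [show Nat.card C[y₀] = b from hyb, ← hbc] at h1
  rw [show Nat.card C[w₀] = c from hwc, ← hbc, mul_comm b c] at h2
  rw [Nat.eq_of_mul_eq_mul_left (hyb ▸ Nat.card_pos) h1,
    Nat.eq_of_mul_eq_mul_left (hwc ▸ Nat.card_pos) h2] at hco
  exact hco.symm

theorem order_cases {v : G} (hv : v ≠ 1) :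
    (orderOf v ∣ b ∧ ¬ orderOf v ∣ c ∧ cc v ≠ c) ∨ (orderOf v ∣ c ∧ ¬ orderOf v ∣ b ∧ cc v = c) := by
  have hd := orderOf_dvd_cc (self_mem v)
  have hco := (card_mul_eq hna h).2
  have hn : ∀ {n : ℕ}, orderOf v ∣ b → orderOf v ∣ c → n = 0 := fun h1 h2 =>
    absurd (Nat.dvd_one.1 (hco ▸ Nat.dvd_gcd h1 h2)) fun e => hv (orderOf_eq_one_iff.1 e)
  rcases h.vals v hv with e | e | e <;> rw [e] at hd
  · exact Or.inl ⟨hd.trans h.dvd, fun h2 => one_ne_zero (hn (hd.trans h.dvd) h2), e ▸ ne_ac hna h⟩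
  · exact Or.inl ⟨hd, fun h2 => one_ne_zero (hn hd h2), e ▸ ne_bc hna h⟩
  · exact Or.inr ⟨hd, fun h2 => one_ne_zero (hn h2 hd), e⟩

/-- The centralizer of an element of the second kind is the centralizer of each of its elements. -/
theorem C_eq {w u : G} (hw : cc w = c) (hw1 : w ≠ 1) (hu : u ∈ C[w]) (hu1 : u ≠ 1) :
    C[u] = C[w] ∧ ∀ x ∈ C[w], ∀ x' ∈ C[w], x * x' = x' * x := by
  have typ : ∀ {v w : G}, cc w = c → v ∈ C[w] → v ≠ 1 → cc v = c := fun {v w} hw hv hv1 => by
    rcases order_cases hna h hv1 with ⟨-, h2, -⟩ | ⟨-, -, h3⟩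
    · exact absurd (hw ▸ orderOf_dvd_cc hv) h2
    · exact h3
  obtain ⟨s, hs, k, hk, hle⟩ := exists_prime_pow hw1
  set w' := w ^ k
  have hw'1 : w' ≠ 1 := fun e => hs.ne_one (by rw [← hk, e, orderOf_one])
  have he := max_c hna h hw hw'1 hle
  have hw' : cc w' = c := by rw [← hw]; show Nat.card C[w'] = Nat.card C[w]; rw [he]
  -- a second prime
  obtain ⟨q, hq, hqc, hqs⟩ : ∃ q : ℕ, q.Prime ∧ q ∣ c ∧ q ≠ s := by
    by_contra hno
    push Not at hno
    obtain ⟨y, hy1, hy⟩ := h.exb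
    refine index_ne_prime_pow hna hy1 hs fun q hq hqd => hno q hq ?_
    have h1 := card_mul_index C[y]
    rw [show Nat.card C[y] = b from hy, ← (card_mul_eq hna h).1] at h1
    rwa [Nat.eq_of_mul_eq_mul_left (hy ▸ Nat.card_pos) h1] at hqd
  haveI : Fact q.Prime := ⟨hq⟩
  obtain ⟨⟨v, hvw⟩, hvo⟩ := exists_prime_orderOf_dvd_card' (G := C[w']) q (by rw [← hw'] at hqc; exact hqc)
  rw [Subgroup.orderOf_mk] at hvo
  -- elements of coprime order are central
  have cen : ∀ {w : G}, cc w = c → w ≠ 1 → ∀ x ∈ C[w], x ≠ 1 → (orderOf w).Coprime (orderOf x) →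
      C[x] = C[w] := by
    intro w hw hw1 x hx hx1 hco
    have hcomm : Commute w x := (show Commute x w from mem_C.1 hx).symm
    have hm : w * x ∈ C[w] := mul_mem (self_mem w) hx
    have hne := mul_ne_one_of_coprime hw1 hco
    have hle1 : C[w * x] ≤ C[w] := fun g hg => mem_C.2 (mem_of_commute_mul hcomm hco (mem_C.1 hg)).1
    have he1 := eq_of_le_of_cc hle1 (by rw [typ hw hm hne, hw])
    refine (eq_of_le_of_cc (fun g hg => ?_) (by rw [typ hw hx hx1, hw])).symm
    rw [← he1] at hg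
    exact mem_C.2 (mem_of_commute_mul hcomm hco (mem_C.1 hg)).2
  have hv1 : v ≠ 1 := fun e => hq.ne_one (by rw [← hvo, e, orderOf_one])
  have hev : C[v] = C[w'] := cen hw' hw'1 v hvw hv1
    (by rw [hk, hvo]; exact (Nat.coprime_primes hs hq).2 hqs.symm)
  have hab : ∀ x ∈ C[w], ∀ x' ∈ C[w], x * x' = x' * x := by
    intro x hx x' hx'
    rw [he] at hx hx'
    obtain ⟨i, n, hn, hxn⟩ := Nat.exists_eq_pow_mul_and_not_dvd (orderOf_pos x).ne' s hs.ne_one
    have h1 : ∀ j : ℕ, j = s ^ i ∨ j = n → x' * x ^ j = x ^ j * x' := by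
      intro j hj
      rcases eq_or_ne (x ^ j) 1 with e | e
      · rw [e, mul_one, one_mul]
      rcases hj with rfl | rfl
      · have := cen hw' hw'1 _ (pow_mem hx _) e (by
          rw [hk]
          refine (Nat.Coprime.coprime_dvd_right ?_ ((hs.coprime_iff_not_dvd).2 hn))
          exact orderOf_dvd_of_pow_eq_one (by rw [← pow_mul, ← hxn, pow_orderOf_eq_one]))
        exact mem_C.1 (this ▸ hx')
      · have := cen (typ hw' hvw hv1) hv1 _ (hev ▸ pow_mem hx _) e (by
          rw [hvo]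
          refine Nat.Coprime.coprime_dvd_right (orderOf_dvd_of_pow_eq_one
            (n := s ^ i) (by rw [← pow_mul, mul_comm, ← hxn, pow_orderOf_eq_one])) ?_
          exact Nat.Coprime.pow_right _ ((Nat.coprime_primes hq hs).2 hqs))
        exact mem_C.1 ((this.trans hev) ▸ hx')
    have hcop : (s ^ i).Coprime n := Nat.Coprime.pow_left _ ((hs.coprime_iff_not_dvd).2 hn)
    have hxe : x ∈ centralizer ({x'} : Set G) := by
      have hA : x ^ s ^ i ∈ centralizer ({x'} : Set G) := mem_C.2 (h1 _ (Or.inl rfl)).symm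
      have hB : x ^ n ∈ centralizer ({x'} : Set G) := mem_C.2 (h1 _ (Or.inr rfl)).symm
      obtain ⟨α, β, hαβ⟩ := Nat.isCoprime_iff_coprime.2 hcop
      have := mul_mem (zpow_mem hA α) (zpow_mem hB β)
      rwa [← zpow_natCast x, ← zpow_natCast x, ← zpow_mul, ← zpow_mul, ← zpow_add,
        mul_comm ((s ^ i : ℕ) : ℤ) α, mul_comm (n : ℤ) β, hαβ, zpow_one] at this
    exact mem_C.1 hxe
  exact ⟨(eq_of_le_of_cc (fun g hg => mem_C.2 (hab g hg u hu)) (by rw [hw, typ hw hu hu1])).symm, hab⟩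

/-- Elements of the second kind are conjugate into a fixed centralizer. -/
theorem exists_conj {w u : G} (hw : cc w = c) (hw1 : w ≠ 1) (hu : cc u = c) (hu1 : u ≠ 1) :
    ∃ g : G, g * u * g⁻¹ ∈ C[w] := by
  obtain ⟨hbc, hco⟩ := card_mul_eq hna h
  obtain ⟨t, ht, htc⟩ := Nat.exists_prime_and_dvd (n := c) fun e => by
    rw [← hw] at e
    have := orderOf_dvd_cc (self_mem w)
    rw [e, Nat.dvd_one] at this
    exact hw1 (orderOf_eq_one_iff.1 this)
  haveI : Fact t.Prime := ⟨ht⟩
  obtain ⟨⟨z, hzw⟩, hzo⟩ := exists_prime_orderOf_dvd_card' (G := C[w]) t (by rw [← hw] at htc; exact htc)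
  rw [Subgroup.orderOf_mk] at hzo
  -- a Sylow subgroup of `G` inside the other centralizer
  have htu : t ∣ Nat.card C[u] := by rw [← hu] at htc; exact htc
  obtain ⟨P⟩ : Nonempty (Sylow t C[u]) := inferInstance
  have hP : ¬ t ∣ ((P : Subgroup C[u]).map (C[u]).subtype).index := by
    rw [index_map_subtype]
    intro hd
    rcases ht.dvd_mul.1 hd with h1 | h1
    · exact P.not_dvd_index h1
    · have h2 := card_mul_index C[u]
      rw [show Nat.card C[u] = c from hu, ← hbc, mul_comm b c] at h2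
      rw [Nat.eq_of_mul_eq_mul_left (hu ▸ Nat.card_pos) h2] at h1
      exact ht.ne_one (Nat.dvd_one.1 (hco ▸ Nat.dvd_gcd h1 htc))
  let Q : Sylow t G := (P.2.map _).toSylow hP
  obtain ⟨R, hR⟩ := (IsPGroup.of_card (n := 1) (by rw [Nat.card_zpowers, hzo, pow_one]) :
    IsPGroup t (zpowers z)).exists_le_sylow
  obtain ⟨g, hg⟩ := MulAction.exists_smul_eq G Q R
  have hzQ : g⁻¹ * z * g ∈ C[u] := by
    have h1 : z ∈ (g • Q : Sylow t G).toSubgroup := by rw [hg]; exact hR (mem_zpowers z)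
    rw [Sylow.coe_subgroup_smul, pointwise_smul_def] at h1
    obtain ⟨d, hd, e⟩ := h1
    have e' : z = g * d * g⁻¹ := e.symm
    rw [e', show g⁻¹ * (g * d * g⁻¹) * g = d by group]
    have hd' : d ∈ (P : Subgroup C[u]).map (C[u]).subtype := hd
    exact map_subtype_le _ hd'
  have hz1 : z ≠ 1 := fun e => ht.ne_one (by rw [← hzo, e, orderOf_one])
  refine ⟨g, ?_⟩
  rw [← (C_eq hna h hw hw1 hzw hz1).1, mem_C]
  have := mem_C.1 hzQ
  calc g * u * g⁻¹ * z = g * (u * (g⁻¹ * z * g)) * g⁻¹ := by group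
    _ = g * (g⁻¹ * z * g * u) * g⁻¹ := by rw [this]
    _ = z * (g * u * g⁻¹) := by group

/-- No element of the first kind normalizes the second centralizer. -/
theorem not_normalizes {y w : G} (hy : cc y = b) (hy1 : y ≠ 1) (hw : cc w = c) (hw1 : w ≠ 1) :
    y ∉ normalizer ((C[w] : Subgroup G) : Set G) := by
  intro hn
  have hall : ∀ g : G, g * y * g⁻¹ ∈ normalizer ((C[w] : Subgroup G) : Set G) := by
    intro g
    obtain ⟨d, hd1, hd2⟩ := pair_conj hna h hy hw g 1
    rw [inv_one, mul_one, one_mul] at hd2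
    have hdm : d ∈ C[w] := mem_C.2 (mul_inv_eq_iff_eq_mul.1 hd2)
    rw [← hd1]
    exact mul_mem (mul_mem (le_normalizer hdm) hn) (inv_mem (le_normalizer hdm))
  have := normalizer_eq_top_iff.1 (eq_bot_or_top_of_conj hall hy1)
  rcases this.eq_bot_or_eq_top with e | e
  · have h1 := self_mem w
    rw [e, mem_bot] at h1
    exact hw1 h1
  · exact C_ne_top hna hw1 e

end CfsgLib.CIT.ThreeSizes
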